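import Groth.Agent.RatUp.Dominate
import Groth.Agent.S1274
import Groth.Agent.ModLeray1.Support
import Groth.Agent.PtBlow.Birat
import Groth.Agent.S7338
import Groth.Agent.S7300
import Mathlib

/-!
Bounded `H¹` and its transfer to normal modifications of a finite extension.
-/

set_option autoImplicit false
set_option backward.isDefEq.respectTransparency false
set_option backward.isDefEq.respectTransparency.types false
set_option linter.style.haveILetI false
set_option maxHeartbeats 1000000

universe u

open CategoryTheory CategoryTheory.Limits AlgebraicGeometry TopologicalSpace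

noncomputable section

namespace Groth.Agent.RatUp

/-- A power of a maximal-ideal element bigger than the length kills a module. -/
theorem pow_smul_eq_zero_of_length_le {A : Type u} [CommRing A] [IsLocalRing A] {M : Type u} [AddCommGroup M]
    [Module A M] (N : ℕ) (h : Module.length A M ≤ (N : ℕ∞)) {a : A} (ha : a ∈ IsLocalRing.maximalIdeal A) (x : M) :
    a ^ N • x = 0 := by
  classical
  haveI hfl : IsFiniteLength A M := Module.length_ne_top_iff.1 (ne_top_of_le_ne_top (ENat.natCast_ne_top N) h)
  haveI : IsNoetherian A M := (isFiniteLength_iff_isNoetherian_isArtinian.1 hfl).1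
  haveI : IsArtinian A M := (isFiniteLength_iff_isNoetherian_isArtinian.1 hfl).2
  let p : ℕ → Submodule A M := fun k => LinearMap.range (LinearMap.lsmul A M (a ^ k))
  have key : ∀ k, p k = ⊥ ∨ Module.length A ↥(p k) + (k : ℕ∞) ≤ Module.length A M := by
    intro k
    induction k with
    | zero => exact Or.inr (by simpa using Module.length_le_of_injective (p 0).subtype (p 0).injective_subtype)
    | succ k ih =>
      by_cases hbot : p (k + 1) = ⊥
      · exact Or.inl hbot
      right
      have hle : p (k + 1) ≤ p k := by
        rintro _ ⟨y, rfl⟩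
        exact ⟨a • y, by simp [pow_succ, mul_smul, smul_comm a (a ^ k) y]⟩
      have hk : p k ≠ ⊥ := fun e => hbot (le_bot_iff.1 (e ▸ hle))
      have hlt : p (k + 1) < p k := by
        refine lt_of_le_of_ne hle fun e => hk ?_
        refine Submodule.eq_bot_of_le_smul_of_le_jacobson_bot (IsLocalRing.maximalIdeal A) _
          (IsNoetherian.noetherian _) ?_ (IsLocalRing.maximalIdeal_le_jacobson _)
        rw [← e]
        rintro _ ⟨y, rfl⟩
        have : (LinearMap.lsmul A M (a ^ (k + 1))) y = a • (a ^ k • y) := by simp [pow_succ', mul_smul]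
        rw [this]
        exact Submodule.smul_mem_smul ha (e ▸ ⟨y, rfl⟩)
      have h1 : Module.length A ↥(p (k + 1)) + 1 ≤ Module.length A ↥(p k) := by
        refine Order.add_one_le_of_lt ?_
        have htop : (p (k + 1)).comap (p k).subtype ≠ ⊤ := fun e => hlt.ne (le_antisymm hle (by
          intro z hz
          have : (⟨z, hz⟩ : ↥(p k)) ∈ (p (k + 1)).comap (p k).subtype := by rw [e]; trivial
          exact this))
        calc Module.length A ↥(p (k + 1)) = Module.length A ↥((p (k + 1)).comap (p k).subtype) :=
              (Submodule.comapSubtypeEquivOfLe hle).symm.length_eq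
          _ < Module.length A ↥(p k) := Submodule.length_lt htop
      calc Module.length A ↥(p (k + 1)) + ((k + 1 : ℕ) : ℕ∞)
          = (Module.length A ↥(p (k + 1)) + 1) + (k : ℕ∞) := by push_cast; ring
        _ ≤ Module.length A ↥(p k) + (k : ℕ∞) := add_le_add_left h1 _
        _ ≤ Module.length A M := (ih.resolve_left hk)
  rcases key N with hb | hN
  · exact (Submodule.eq_bot_iff _).1 hb _ ⟨x, rfl⟩
  · have h0 : Module.length A ↥(p N) = 0 := by
      have h2 : Module.length A ↥(p N) + (N : ℕ∞) ≤ 0 + (N : ℕ∞) := by rw [zero_add]; exact hN.trans h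
      exact nonpos_iff_eq_zero.1 ((ENat.add_le_add_iff_right (ENat.natCast_ne_top N)).1 h2)
    haveI := (Module.length_eq_zero_iff (R := A)).1 h0
    exact congrArg Subtype.val (Subsingleton.elim (⟨_, ⟨x, rfl⟩⟩ : ↥(p N)) 0)

/-- A modification of a two-dimensional normal local domain is an isomorphism over the punctured spectrum. -/
theorem isIso_restrict_punctured {C : Type u} [CommRing C] [IsDomain C] [IsLocalRing C] [IsNoetherianRing C]
    [IsIntegrallyClosed C] (hC : ringKrullDim C = 2) {W : Scheme.{u}} [IsIntegral W]
    (w : W ⟶ Spec (CommRingCat.of C)) [IsProper w]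
    (hw : ∃ U : (Spec (CommRingCat.of C)).Opens, (U : Set (Spec (CommRingCat.of C))).Nonempty ∧ IsIso (w ∣_ U)) :
    IsIso (w ∣_ FEt.puncturedSpec C) := by
  have hSn : Pi1.IsNormalScheme (Spec (CommRingCat.of C)) := fun s => RatBlow.isNormal_spec (A := C) s
  obtain ⟨-, hcl⟩ := PtBlow.compl_isoLocus w hSn
    (le_of_eq ((PrimeSpectrum.topologicalKrullDim_eq_ringKrullDim C).trans hC)) hw
  refine ModLeray1.isIso_restrict_of_le_isoLocus w fun s hs => ?_
  by_contra h
  refine hs ?_
  obtain ⟨hsc, -⟩ := hcl s h
  exact ((IsLocalRing.specializes_closedPoint (R := C) s).mem_closed hsc (Set.mem_singleton s)).symm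

/-- Any ideal sheaf on an affine scheme comes from an ideal. -/
theorem exists_ideal {C : Type u} [CommRing C] (I : (Spec (CommRingCat.of C)).IdealSheafData) :
    ∃ J : Ideal C, I = Curv2.idealSheaf C J := by
  refine ⟨(I.ideal ⟨⊤, isAffineOpen_top _⟩).comap (Scheme.ΓSpecIso (CommRingCat.of C)).inv.hom, ?_⟩
  refine Scheme.IdealSheafData.ext_of_isAffine ?_
  simp only [Curv2.idealSheaf, Scheme.IdealSheafData.ofIdealTop_ideal, Ideal.map_map]
  simp [Ideal.map_comap_of_surjective _ (ConcreteCategory.bijective_of_isIso (Scheme.ΓSpecIso (CommRingCat.of C)).inv).2]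

end Groth.Agent.RatUp
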