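import Groth.Agent.RatTrace.Cover
import Groth.Agent.RatLocal.BaseChange
import Groth.Agent.RatLocal.Normalise
import Groth.Agent.PtBlow.Rational
import Groth.Agent.PtBlow.Birat
import Groth.Agent.ModLeray1.Support
import Groth.Agent.W7FlatBC.Sections
import Groth.Agent.FreeLite.Basic
import Groth.Agent.CohQC.Restrict
import Groth.Agent.RatBlow.Base
import Mathlib

/-!
Rationality at every closed point kills `H¹` of modifications; degrees kill `H¹` downstairs.
-/

set_option autoImplicit false
set_option backward.isDefEq.respectTransparency false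
set_option backward.isDefEq.respectTransparency.types false
set_option linter.style.haveILetI false
set_option maxHeartbeats 1000000

universe u

open CategoryTheory CategoryTheory.Limits AlgebraicGeometry TopologicalSpace
open scoped TensorProduct

noncomputable section

namespace Groth.Agent.RatUp

variable {B : Type u} [CommRing B] [IsDomain B] [IsNoetherianRing B] [IsIntegrallyClosed B]

theorem localised_h1 (hdim : ringKrullDim B ≤ 2)
    (hB : ∀ (n : Ideal B) [n.IsMaximal], ringKrullDim (Localization.AtPrime n) = 2 →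
      Curv2.IsRationalSing (Localization.AtPrime n))
    {Z : Scheme.{u}} [IsIntegral Z] [Z.Over (Spec (CommRingCat.of B))] [IsProper (Z ↘ Spec (CommRingCat.of B))]
    (hZn : Pi1.IsNormalScheme Z) (V : (Spec (CommRingCat.of B)).Opens)
    (hV : (V : Set (Spec (CommRingCat.of B))).Nonempty) [IsIso ((Z ↘ Spec (CommRingCat.of B)) ∣_ V)]
    (n : Ideal B) [n.IsMaximal] :
    Subsingleton (Localization.AtPrime n ⊗[B] Coh.HH Z (Coh.structureModule Z) 1) := by
  classical
  let R : Type u := Localization.AtPrime n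
  let g := Z ↘ Spec (CommRingCat.of B)
  let σ : Spec (CommRingCat.of R) ⟶ Spec (CommRingCat.of B) := Spec.map (CommRingCat.ofHom (algebraMap B R))
  haveI : IsPreimmersion σ := IsPreimmersion.of_isLocalization n.primeCompl
  haveI : Module.Flat B R := IsLocalization.flat R n.primeCompl
  haveI : Flat σ := by
    rw [HasRingHomProperty.Spec_iff (P := @Flat)]
    exact RingHom.flat_algebraMap_iff.mpr inferInstance
  haveI : IsIntegrallyClosed R :=
    isIntegrallyClosed_of_isLocalization R n.primeCompl n.primeCompl_le_nonZeroDivisors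
  obtain ⟨-, ⟨_, ⟨a, rfl⟩, rfl⟩, haV, haV'⟩ :=
    PrimeSpectrum.isBasis_basic_opens.exists_subset_of_mem_open
      (show genericPoint (Spec (CommRingCat.of B)) ∈ V from
        ((genericPoint_spec _).mem_open_set_iff V.2).2 (by simpa using hV)) V.2
  have hinjR : Function.Injective (algebraMap B R) :=
    IsLocalization.injective R n.primeCompl_le_nonZeroDivisors
  have ha : algebraMap B R a ≠ 0 := (map_ne_zero_iff _ hinjR).2 fun h0 => by
    subst h0
    exact haV (Submodule.zero_mem _)
  haveI : IsIso (g ∣_ PrimeSpectrum.basicOpen a) :=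
    ModLeray1.isIso_restrict_of_le_isoLocus g (le_trans haV' (PtBlow.le_isoLocus ‹IsIso (g ∣_ V)›))
  let ZR := pullback g σ
  let p : ZR ⟶ Spec (CommRingCat.of R) := pullback.snd g σ
  let k : ZR ⟶ Z := pullback.fst g σ
  have hpb : IsPullback k p g σ := IsPullback.of_hasPullback _ _
  haveI : IsIntegral ZR := RatLocal.isIntegral_pullback_of_birational g a ha hpb
  haveI : IsProper p := MorphismProperty.pullback_snd (P := @IsProper) _ _ inferInstance
  haveI : IsPreimmersion k := MorphismProperty.pullback_fst (P := @IsPreimmersion) _ _ inferInstance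
  haveI : Flat k := MorphismProperty.pullback_fst (P := @Flat) _ _ inferInstance
  have hn : Pi1.IsNormalScheme ZR := fun w => by
    obtain ⟨h1, h2⟩ := hZn (k w)
    haveI := h1; haveI := h2
    let φ := k.stalkMap w
    letI := φ.hom.toAlgebra
    haveI : IsLocalHom (algebraMap (Z.presheaf.stalk (k w)) (ZR.presheaf.stalk w)) :=
      inferInstanceAs (IsLocalHom φ.hom)
    haveI : Module.Flat (Z.presheaf.stalk (k w)) (ZR.presheaf.stalk w) := Flat.stalkMap k w
    haveI := Module.FaithfullyFlat.of_flat_of_isLocalHom (A := Z.presheaf.stalk (k w)) (B := ZR.presheaf.stalk w)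
    let e := RingEquiv.ofBijective φ.hom ⟨FaithfulSMul.algebraMap_injective _ _, k.stalkMap_surjective w⟩
    exact ⟨e.symm.toMulEquiv.isDomain, IsIntegrallyClosed.of_equiv e⟩
  have hiso : IsIso (p ∣_ σ ⁻¹ᵁ PrimeSpectrum.basicOpen a) := by
    have hA := (isPullback_morphismRestrict p (σ ⁻¹ᵁ PrimeSpectrum.basicOpen a)).flip
    have hB := hA.paste_horiz hpb
    rw [← morphismRestrict_ι σ (PrimeSpectrum.basicOpen a)] at hB
    have hD := IsPullback.of_right' hB (isPullback_morphismRestrict g (PrimeSpectrum.basicOpen a)).flip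
    exact MorphismProperty.of_isPullback (P := MorphismProperty.isomorphisms Scheme.{u}) hD ‹IsIso (g ∣_ _)›
  have hbir : ∃ W : (Spec (CommRingCat.of R)).Opens, (W : Set (Spec (CommRingCat.of R))).Nonempty ∧ IsIso (p ∣_ W) :=
    ⟨σ ⁻¹ᵁ PrimeSpectrum.basicOpen a, ⟨(⟨⊥, Ideal.bot_prime⟩ : PrimeSpectrum R), fun h0 => ha (Ideal.mem_bot.1 h0)⟩, hiso⟩
  have hdR : ringKrullDim R ≤ 2 := le_trans (by
    rw [IsLocalization.AtPrime.ringKrullDim_eq_height n R]
    exact Ideal.height_le_ringKrullDim_of_ne_top (Ideal.IsPrime.ne_top inferInstance)) hdim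
  have h1 : Subsingleton (Coh.HH ZR (Coh.structureModule ZR) 1) := by
    by_cases h2 : ringKrullDim R = 2
    · exact hB n h2 ZR p inferInstance inferInstance hn hbir
    · have hSn : Pi1.IsNormalScheme (Spec (CommRingCat.of R)) := fun s => RatBlow.isNormal_spec (A := R) s
      obtain ⟨-, hcl⟩ := PtBlow.compl_isoLocus p hSn
        ((PrimeSpectrum.topologicalKrullDim_eq_ringKrullDim R).le.trans hdR) hbir
      haveI : IsIso p := by
        have htop : (⊤ : (Spec (CommRingCat.of R)).Opens) ≤ PtBlow.isoLocus p := fun s _ => by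
          by_contra hs
          have h3 := (hcl s hs).2
          exact h2 (le_antisymm hdR (h3 ▸ (RegDual.ringKrullDim_stalk_le_topologicalKrullDim s).trans
            (PrimeSpectrum.topologicalKrullDim_eq_ringKrullDim R).le))
        haveI := ModLeray1.isIso_restrict_of_le_isoLocus p htop
        haveI : IsIso (⊤ : (Spec (CommRingCat.of R)).Opens).ι :=
          inferInstanceAs (IsIso (Spec (CommRingCat.of R)).topIso.hom)
        haveI : IsIso (⊤ : ZR.Opens).ι := inferInstanceAs (IsIso ZR.topIso.hom)
        have h4 : IsIso ((p ⁻¹ᵁ ⊤).ι ≫ p) := by rw [← morphismRestrict_ι]; infer_instance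
        haveI : IsIso (p ⁻¹ᵁ ⊤).ι := by
          rw [Scheme.Hom.preimage_top]; infer_instance
        exact IsIso.of_isIso_comp_left (p ⁻¹ᵁ ⊤).ι p
      haveI : IsAffine ZR := IsAffine.of_isIso p
      haveI : (Coh.structureModule ZR).IsQuasicoherent := StMod.isQCoh_structureModule ZR
      exact PtBlow.subsingleton_hh_of_isAffine _
  letI : ZR.Over (Spec (CommRingCat.of R)) := ⟨p⟩
  haveI : CompactSpace Z := QuasiCompact.compactSpace_of_compactSpace g
  haveI : IsLocallyNoetherian Z := LocallyOfFiniteType.isLocallyNoetherian g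
  haveI : QuasiSeparatedSpace Z := inferInstance
  obtain ⟨E⟩ := W7FlatBC.nonempty_hh_baseChange B R k hpb
    (Coh.structureModule Z) (StMod.isQCoh_structureModule _) 1
  have h2 := CohQC.hh_subsingleton_of_iso (FreeLite.pullUnitIso k).symm 1 h1
  exact @Equiv.subsingleton _ _ E.toEquiv h2

/-- Rationality at every closed point kills `H¹` of every modification. -/
theorem subsingleton_h1 (hdim : ringKrullDim B ≤ 2)
    (hB : ∀ (n : Ideal B) [n.IsMaximal], ringKrullDim (Localization.AtPrime n) = 2 →
      Curv2.IsRationalSing (Localization.AtPrime n))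
    {Z : Scheme.{u}} [IsIntegral Z] [Z.Over (Spec (CommRingCat.of B))] [IsProper (Z ↘ Spec (CommRingCat.of B))]
    (hZn : Pi1.IsNormalScheme Z) (V : (Spec (CommRingCat.of B)).Opens)
    (hV : (V : Set (Spec (CommRingCat.of B))).Nonempty) [IsIso ((Z ↘ Spec (CommRingCat.of B)) ∣_ V)] :
    Subsingleton (Coh.HH Z (Coh.structureModule Z) 1) := by
  refine subsingleton_of_forall_eq 0 fun x => ?_
  by_contra hx
  have hne : LinearMap.ker (LinearMap.toSpanSingleton B (Coh.HH Z (Coh.structureModule Z) 1) x) ≠ ⊤ := fun e => hx (by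
    have h1 : (1 : B) ∈ LinearMap.ker (LinearMap.toSpanSingleton B (Coh.HH Z (Coh.structureModule Z) 1) x) := by
      rw [e]; trivial
    rwa [LinearMap.mem_ker, LinearMap.toSpanSingleton_apply, one_smul] at h1)
  obtain ⟨n, hn, hle⟩ := Ideal.exists_le_maximal _ hne
  haveI := hn
  haveI := localised_h1 hdim hB hZn V hV n
  haveI : IsLocalizedModule n.primeCompl (TensorProduct.mk B (Localization.AtPrime n) (Coh.HH Z (Coh.structureModule Z) 1) 1) :=
    (isLocalizedModule_iff_isBaseChange n.primeCompl (Localization.AtPrime n) _).2 (TensorProduct.isBaseChange _ _ _)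
  obtain ⟨s, hs⟩ := (IsLocalizedModule.eq_zero_iff n.primeCompl
    (TensorProduct.mk B (Localization.AtPrime n) (Coh.HH Z (Coh.structureModule Z) 1) 1)).1
    (Subsingleton.elim (TensorProduct.mk B (Localization.AtPrime n) (Coh.HH Z (Coh.structureModule Z) 1) 1 x) 0)
  exact s.2 (hle (by rw [LinearMap.mem_ker, LinearMap.toSpanSingleton_apply]; exact hs))

variable {A : Type u} [CommRing A] [IsDomain A] [IsNoetherianRing A] [IsIntegrallyClosed A] [Algebra A B]
  [Module.Finite A B]

/-- The degree kills `H¹` of modifications downstairs. -/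
theorem natCast_smul_h1 (hNB : CAlg.IsNagata B) (hinj : Function.Injective (algebraMap A B))
    (hdim : ringKrullDim B ≤ 2)
    (hB : ∀ (n : Ideal B) [n.IsMaximal], ringKrullDim (Localization.AtPrime n) = 2 →
      Curv2.IsRationalSing (Localization.AtPrime n))
    (K L : Type u) [Field K] [Field L] [Algebra A K] [IsFractionRing A K] [Algebra B L] [IsFractionRing B L]
    [Algebra K L] [Algebra A L] [IsScalarTower A K L] [IsScalarTower A B L]
    {Y : Scheme.{u}} [IsIntegral Y] [Y.Over (Spec (CommRingCat.of A))] [IsProper (Y ↘ Spec (CommRingCat.of A))]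
    (hYn : Pi1.IsNormalScheme Y) (U : (Spec (CommRingCat.of A)).Opens)
    (hU : (U : Set (Spec (CommRingCat.of A))).Nonempty) [IsIso ((Y ↘ Spec (CommRingCat.of A)) ∣_ U)]
    (x : Coh.HH Y (Coh.structureModule Y) 1) : (Module.finrank K L : A) • x = 0 := by
  obtain ⟨Z, g, π, hg, hZi, hZn, ⟨V, hV, hVi⟩, hπ, hsq⟩ :=
    RatTrace.exists_cover hNB hinj (Y ↘ Spec (CommRingCat.of A)) U hU
  haveI := hZi; haveI := hVi; haveI := hπ
  letI : Z.Over (Spec (CommRingCat.of B)) := ⟨g⟩
  haveI : IsProper (Z ↘ Spec (CommRingCat.of B)) := hg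
  haveI : IsIso ((Z ↘ Spec (CommRingCat.of B)) ∣_ V) := hVi
  exact RatTrace.natCast_smul_h1_eq_zero A B K L hinj hYn g π hsq U hU V hV (subsingleton_h1 hdim hB hZn V hV) x

end Groth.Agent.RatUp
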