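import Groth.Agent.RatUp.Kronecker
import Groth.Agent.RatTrace.Field
import Groth.Agent.RatBlow.Modif
import Groth.Agent.RatBlow.Powers
import Groth.Agent.NormSect.Basic
import Groth.Agent.RatLocal.Normalise
import Groth.Agent.RatTrace.Cover
import Groth.Agent.BlowUpExist.Global
import Groth.Agent.BlowUpExist.Proper
import Groth.Agent.BlowUpLib.Basic
import Groth.Agent.W7Fib.Birat
import Mathlib

/-!
An ideal upstairs becomes invertible on the normal cover of a suitable modification downstairs.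
-/

set_option autoImplicit false
set_option backward.isDefEq.respectTransparency false
set_option backward.isDefEq.respectTransparency.types false
set_option linter.style.haveILetI false
set_option maxHeartbeats 1000000

universe u

open CategoryTheory CategoryTheory.Limits AlgebraicGeometry TopologicalSpace

noncomputable section

namespace Groth.Agent.RatUp

variable {A B : Type u} [CommRing A] [CommRing B] [IsDomain A] [IsDomain B] [Algebra A B] [Module.Finite A B]

/-- A nonzero polynomial upstairs divides a nonzero polynomial from downstairs. -/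
theorem exists_mul_mem_range (F : Polynomial B) (hF : F ≠ 0) :
    ∃ (G : Polynomial B) (c : Polynomial A), c ≠ 0 ∧ F * G = c.map (algebraMap A B) := by
  letI : Algebra (Polynomial A) (Polynomial B) := (Polynomial.mapRingHom (algebraMap A B)).toAlgebra
  haveI : Algebra.IsIntegral (Polynomial A) (Polynomial B) := by
    refine ⟨fun G => ?_⟩
    induction G using Polynomial.induction_on' with
    | add p q hp hq => exact hp.add hq
    | monomial n b =>
      rw [← Polynomial.C_mul_X_pow_eq_monomial]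
      refine IsIntegral.mul ?_ ?_
      · obtain ⟨p, hp, hpb⟩ := Algebra.IsIntegral.isIntegral (R := A) b
        refine ⟨p.map Polynomial.C, hp.map _, ?_⟩
        rw [Polynomial.eval₂_map,
          show (algebraMap (Polynomial A) (Polynomial B)).comp Polynomial.C = Polynomial.C.comp (algebraMap A B) from
            RingHom.ext fun a => Polynomial.map_C _,
          ← Polynomial.hom_eval₂, hpb, map_zero]
      · have hX : algebraMap (Polynomial A) (Polynomial B) (Polynomial.X ^ n) = Polynomial.X ^ n := by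
          show (Polynomial.X ^ n : Polynomial A).map (algebraMap A B) = _
          rw [Polynomial.map_pow, Polynomial.map_X]
        rw [← hX]
        exact isIntegral_algebraMap
  obtain ⟨c, hc, G, hG⟩ := RatTrace.exists_mul_eq (A := Polynomial A) hF
  exact ⟨G, c, hc, hG⟩

/-- Local criterion for invertibility of an extended ideal on an integral scheme. -/
theorem isEffCartierIdeal_of_local {X : Scheme.{u}} [IsIntegral X] {R : Type u} [CommRing R]
    (f : X ⟶ Spec (CommRingCat.of R)) (J : Ideal R)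
    (h : ∀ x : X, ∃ W : X.affineOpens, x ∈ W.1 ∧ ∃ (u : Γ(X, W.1)) (a : R), x ∈ X.basicOpen u ∧ a ∈ J ∧
      RatBlow.el f W.1 a ≠ 0 ∧ ∀ y ∈ J, u * RatBlow.el f W.1 y ∈ Ideal.span {RatBlow.el f W.1 a}) :
    BlowUp.IsEffCartierIdeal ((Curv2.idealSheaf R J).comap f) := fun x => by
  obtain ⟨W, hxW, u, a, hxu, haJ, ha0, hdiv⟩ := h x
  let D : X.affineOpens := X.affineBasicOpen u
  let r : Γ(X, W.1) →+* Γ(X, D.1) := (X.presheaf.map (homOfLE (X.basicOpen_le u)).op).hom
  have hr : ∀ b, r (RatBlow.el f W.1 b) = RatBlow.el f D.1 b := fun b => RatBlow.el_res f (X.basicOpen_le u) b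
  haveI : Nonempty W.1 := ⟨⟨x, hxW⟩⟩
  haveI : Nonempty D.1 := ⟨⟨x, hxu⟩⟩
  haveI : Nonempty (X.basicOpen u) := ⟨⟨x, hxu⟩⟩
  have hu : IsUnit (r u) := RingedSpace.isUnit_res_basicOpen _ u
  refine ⟨D, hxu, r (RatBlow.el f W.1 a), mem_nonZeroDivisors_of_ne_zero fun h0 => ha0 ?_, ?_⟩
  · apply Scheme.germToFunctionField_injective X W.1
    rw [map_zero, ← NormSect.germTo_res (X.basicOpen_le u) (RatBlow.el f W.1 a)]
    exact (congrArg (X.germToFunctionField D.1) h0).trans (map_zero _)
  · rw [RatBlow.comap_ideal]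
    refine le_antisymm ?_ ?_
    · rw [Ideal.map_le_iff_le_comap]
      intro y hy
      obtain ⟨s, hs⟩ := Ideal.mem_span_singleton'.1 (hdiv y hy)
      obtain ⟨v, hv⟩ := hu.exists_left_inv
      refine Ideal.mem_span_singleton'.2 ⟨v * r s, ?_⟩
      rw [mul_assoc, ← map_mul, hs, map_mul, ← mul_assoc, hv, one_mul, hr]
    · rw [Ideal.span_singleton_le_iff_mem, hr]
      exact Ideal.mem_map_of_mem _ haJ

/-- The content of the product being invertible downstairs makes the factor invertible upstairs. -/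
theorem isEffCartierIdeal_of_product {Y Z : Scheme.{u}} [IsIntegral Y] [IsIntegral Z]
    (f : Y ⟶ Spec (CommRingCat.of A)) (g : Z ⟶ Spec (CommRingCat.of B)) (π : Z ⟶ Y)
    (hπ : π (genericPoint Z) = genericPoint Y)
    (hsq : π ≫ f = g ≫ RatTrace.specMap (A := A) (B := B)) (hZ : Pi1.IsNormalScheme Z)
    (F G : Polynomial B) (c : Polynomial A) (hFG : F * G = c.map (algebraMap A B))
    (hI : BlowUp.IsEffCartierIdeal ((Curv2.idealSheaf A (Ideal.span (Set.range c.coeff))).comap f)) :
    BlowUp.IsEffCartierIdeal ((Curv2.idealSheaf B (Ideal.span (Set.range F.coeff))).comap g) := by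
  refine isEffCartierIdeal_of_local g _ fun z => ?_
  obtain ⟨W, hzW, t, ht, htI⟩ := hI (π z)
  obtain ⟨W', hW', hzW', hW'W⟩ := exists_isAffineOpen_mem_and_subset (X := Z) (x := z) (U := π ⁻¹ᵁ W.1) hzW
  haveI : Nonempty W' := ⟨⟨z, hzW'⟩⟩
  haveI : Nonempty W.1 := ⟨⟨π z, hzW⟩⟩
  haveI := NormSect.isIntegrallyClosed_sections W' fun x _ => (hZ x).2
  let R : Type u := Γ(Z, W')
  let ρ : Γ(Y, W.1) →+* R := (π.appLE W.1 W' hW'W).hom
  have hρ : ∀ a : A, ρ (RatBlow.el f W.1 a) = RatBlow.el g W' (algebraMap A B a) := fun a => by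
    show (π.appLE W.1 W' hW'W).hom (Y.presheaf.map (homOfLE le_top).op (Coh.toGlobal f a)) =
      Z.presheaf.map (homOfLE le_top).op (Coh.toGlobal g (algebraMap A B a))
    rw [← CommRingCat.comp_apply, Scheme.Hom.map_appLE]
    have e : (Coh.toGlobal g (algebraMap A B a) : Γ(Z, ⊤)) = π.appTop (Coh.toGlobal f a) := by
      have h1 := congrArg (fun k : Z ⟶ Spec (CommRingCat.of A) => (Coh.toGlobal k a : Γ(Z, ⊤))) hsq
      refine Eq.trans ?_ h1.symm
      simp only [Coh.toGlobal, Scheme.Hom.comp_appTop, RatTrace.specMap]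
      exact congrArg g.appTop
        (ConcreteCategory.congr_hom (Scheme.ΓSpecIso_inv_naturality (CommRingCat.ofHom (algebraMap A B))) a)
    rw [e]
    exact ConcreteCategory.congr_hom (Scheme.Hom.appLE_map π (le_top : ⊤ ≤ π ⁻¹ᵁ ⊤) (homOfLE le_top).op).symm _ |>.trans
      (by simp [Scheme.Hom.appLE, Scheme.Hom.appTop])
  let t' : R := ρ t
  have ht' : t' ≠ 0 := by
    intro h0
    have hη : genericPoint Z ∈ W' :=
      ((genericPoint_spec Z).mem_open_set_iff W'.2).2 (by simpa using ⟨z, hzW'⟩)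
    have h1 : Z.basicOpen t' = W' ⊓ π ⁻¹ᵁ Y.basicOpen t := Scheme.basicOpen_appLE π W' W.1 hW'W t
    rw [h0, Scheme.basicOpen_zero] at h1
    have h2 : genericPoint Z ∈ W' ⊓ π ⁻¹ᵁ Y.basicOpen t := by
      refine ⟨hη, ?_⟩
      show π (genericPoint Z) ∈ Y.basicOpen t
      rw [hπ]
      refine ((genericPoint_spec Y).mem_open_set_iff (Y.basicOpen t).2).2 ?_
      have hne : Y.basicOpen t ≠ ⊥ := fun e => nonZeroDivisors.ne_zero ht ((basicOpen_eq_bot_iff t).1 e)
      simpa using (Opens.ne_bot_iff_nonempty _).1 hne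
    rw [← h1] at h2
    exact h2
  let P : Polynomial R := F.map (RatBlow.el g W')
  let Q : Polynomial R := G.map (RatBlow.el g W')
  rw [RatBlow.comap_ideal] at htI
  have hdvd : ∀ k, t' ∣ (P * Q).coeff k := fun k => by
    rw [← Polynomial.map_mul, hFG, Polynomial.coeff_map, Polynomial.coeff_map, ← hρ]
    have h1 : RatBlow.el f W.1 (c.coeff k) ∈ Ideal.span {t} := by
      rw [← htI]; exact Ideal.mem_map_of_mem _ (Ideal.subset_span ⟨k, rfl⟩)
    exact map_dvd ρ (Ideal.mem_span_singleton.1 h1)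
  choose u hu using fun ij : ℕ × ℕ => dvd_coeff_mul_coeff P Q t' hdvd ij.1 ij.2
  let U : Ideal R := Ideal.span (Set.range u)
  have hU : U = ⊤ := by
    rw [Ideal.eq_top_iff_one]
    have h1 : (Ideal.span (Set.range c.coeff)).map (RatBlow.el f W.1) ≤ (Ideal.span {t'} * U).comap ρ := by
      rw [Ideal.map_span, Ideal.span_le]
      rintro _ ⟨_, ⟨k, rfl⟩, rfl⟩
      show ρ (RatBlow.el f W.1 (c.coeff k)) ∈ Ideal.span {t'} * U
      rw [hρ, ← Polynomial.coeff_map, ← hFG, Polynomial.coeff_mul, map_sum]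
      refine Ideal.sum_mem _ fun p _ => ?_
      rw [map_mul, ← Polynomial.coeff_map, ← Polynomial.coeff_map, hu p]
      exact Ideal.mul_mem_mul (Ideal.mem_span_singleton_self _) (Ideal.subset_span ⟨p, rfl⟩)
    rw [htI, Ideal.span_singleton_le_iff_mem, Ideal.mem_comap] at h1
    obtain ⟨s, hs, hst⟩ := Ideal.mem_span_singleton_mul.1 h1
    have : s = 1 := mul_left_cancel₀ ht' (by rw [hst, mul_one])
    exact this ▸ hs
  obtain ⟨⟨i, j⟩, hij⟩ : ∃ ij, z ∈ Z.basicOpen (u ij) := by
    by_contra hne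
    push_neg at hne
    let γ := (Z.presheaf.germ W' z hzW').hom
    have hle : U ≤ (IsLocalRing.maximalIdeal _).comap γ := by
      rw [Ideal.span_le]
      rintro _ ⟨ij, rfl⟩
      exact fun hun => hne ij ((Z.mem_basicOpen (u ij) z hzW').2 hun)
    rw [hU, top_le_iff, Ideal.comap_eq_top_iff] at hle
    exact (IsLocalRing.maximalIdeal.isMaximal _).ne_top hle
  refine ⟨⟨W', hW'⟩, hzW', u (i, j), F.coeff i, hij, Ideal.subset_span ⟨i, rfl⟩, ?_, ?_⟩
  · intro h0
    have h1 := hu (i, j)
    rw [Polynomial.coeff_map, h0, zero_mul, eq_comm, mul_eq_zero] at h1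
    rcases h1 with h1 | h1
    · exact ht' h1
    · rw [h1, Scheme.basicOpen_zero] at hij
      exact hij
  · intro y hy
    induction hy using Submodule.span_induction with
    | mem y hy =>
      obtain ⟨l, rfl⟩ := hy
      rw [Ideal.mem_span_singleton']
      refine ⟨u (l, j), mul_left_cancel₀ ht' ?_⟩
      have h1 := hu (i, j)
      have h2 := hu (l, j)
      simp only [P, Q, Polynomial.coeff_map] at h1 h2
      linear_combination (RatBlow.el g W' (F.coeff i)) * (-1 : R) * h2 + (RatBlow.el g W' (F.coeff l)) * h1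
    | zero => rw [map_zero, mul_zero]; exact Submodule.zero_mem _
    | add a b _ _ ha hb => rw [map_add, mul_add]; exact Submodule.add_mem _ ha hb
    | smul r a _ ha => rw [smul_eq_mul, map_mul, mul_left_comm]; exact Ideal.mul_mem_left _ _ ha

/-- The key construction: an ideal upstairs becomes invertible on the cover of a modification downstairs. -/
theorem exists_dominating [IsNoetherianRing A] [IsNoetherianRing B] [IsIntegrallyClosed A] [IsIntegrallyClosed B]
    (hNA : CAlg.IsNagata A) (hNB : CAlg.IsNagata B)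
    (hinj : Function.Injective (algebraMap A B)) (J : Ideal B) (hJ : J ≠ ⊥) :
    ∃ (Y Z : Scheme.{u}) (f : Y ⟶ Spec (CommRingCat.of A)) (g : Z ⟶ Spec (CommRingCat.of B)) (π : Z ⟶ Y),
      IsProper f ∧ IsIntegral Y ∧ Pi1.IsNormalScheme Y ∧
      (∃ U : (Spec (CommRingCat.of A)).Opens, (U : Set (Spec (CommRingCat.of A))).Nonempty ∧ IsIso (f ∣_ U)) ∧
      IsProper g ∧ IsIntegral Z ∧ Pi1.IsNormalScheme Z ∧
      (∃ V : (Spec (CommRingCat.of B)).Opens, (V : Set (Spec (CommRingCat.of B))).Nonempty ∧ IsIso (g ∣_ V)) ∧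
      IsFinite π ∧ π ≫ f = g ≫ RatTrace.specMap ∧
      BlowUp.IsEffCartierIdeal ((Curv2.idealSheaf B J).comap g) := by
  classical
  obtain ⟨r, a, ha⟩ := Submodule.fg_iff_exists_fin_generating_family.1 (IsNoetherian.noetherian J)
  let F : Polynomial B := Polynomial.ofFn r a
  have hFc : Ideal.span (Set.range F.coeff) = J := by
    refine le_antisymm (Ideal.span_le.2 ?_) ?_
    · rintro _ ⟨i, rfl⟩
      by_cases hi : i < r
      · rw [Polynomial.ofFn_coeff_eq_val_of_lt a hi, ← ha]
        exact Submodule.subset_span ⟨_, rfl⟩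
      · rw [Polynomial.ofFn_coeff_eq_zero_of_ge a (not_lt.1 hi)]
        exact J.zero_mem
    · conv_lhs => rw [← ha]
      refine Submodule.span_le.2 ?_
      rintro _ ⟨i, rfl⟩
      exact Ideal.subset_span ⟨i.1, Polynomial.ofFn_coeff_eq_val_of_lt a i.2⟩
  have hF : F ≠ 0 := fun e => hJ (by rw [← hFc, e]; simp)
  obtain ⟨G, c, hc, hFG⟩ := exists_mul_mem_range (A := A) F hF
  let I : Ideal A := Ideal.span (Set.range c.coeff)
  have hI : I ≠ ⊥ := fun e => hc (Polynomial.ext fun k => by
    have h1 : c.coeff k ∈ I := Ideal.subset_span ⟨k, rfl⟩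
    rw [e] at h1
    simpa using h1)
  have hI' : Curv2.idealSheaf A I ≠ ⊥ := fun h => hI (by
    have h' : (Curv2.idealSheaf A I).ideal ⟨⊤, isAffineOpen_top _⟩ = ⊥ := by
      rw [h]; exact Scheme.IdealSheafData.ideal_bot ▸ rfl
    simp only [Curv2.idealSheaf, Scheme.IdealSheafData.ofIdealTop_ideal, Ideal.map_map] at h'
    refine (Ideal.map_eq_bot_iff_of_injective ?_).1 h'
    intro u v huv
    exact (Scheme.ΓSpecIso (CommRingCat.of A)).symm.commRingCatIsoToRingEquiv.injective huv)
  obtain ⟨Y₀, b, hb⟩ := BlowUpExist.exists_isBlowUp _ (Curv2.idealSheaf A I)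
  haveI : IsProper b := BlowUpExist.isProper_spec b _ hb (by
    haveI := IsLocallyNoetherian.component_noetherian (X := Spec (CommRingCat.of A)) ⟨⊤, isAffineOpen_top _⟩
    exact IsNoetherian.noetherian _)
  haveI : IsIntegral Y₀ := W7Fib.isIntegral_blowUp hI' hb
  have hb0 := BlowUpLib.isIso_restrict hb
  obtain ⟨Y, ν, hνp, hYi, hYn, ⟨U, hU, hUi⟩, -⟩ := RatLocal.exists_normal_over hNA b
    ⟨(Curv2.idealSheaf A I).support.compl, ⟨_, W7Fib.genericPoint_notMem_support hI'⟩, hb0⟩
  haveI := hYi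
  haveI := hUi
  haveI := hνp
  haveI := hb0
  have hgen : ν (genericPoint Y) = genericPoint Y₀ := by
    let U₀ := (Curv2.idealSheaf A I).support.compl
    have h1 : (b ≫ (𝟙 _)) (ν (genericPoint Y)) = genericPoint (Spec (CommRingCat.of A)) := by
      rw [Category.comp_id, ← Scheme.Hom.comp_apply]
      exact RatTrace.map_generic_of_birational (ν ≫ b) U hU
    rw [Category.comp_id] at h1
    have hη : genericPoint (Spec (CommRingCat.of A)) ∈ U₀ := W7Fib.genericPoint_notMem_support hI'
    have h2 := RatTrace.map_generic_of_birational b U₀ ⟨_, hη⟩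
    have h3 : (b ∣_ U₀) ⟨ν (genericPoint Y), show b (ν (genericPoint Y)) ∈ U₀ by rw [h1]; exact hη⟩ =
        (b ∣_ U₀) ⟨genericPoint Y₀, show b (genericPoint Y₀) ∈ U₀ by rw [h2]; exact hη⟩ :=
      Subtype.ext (by rw [morphismRestrict_base_coe, morphismRestrict_base_coe]; exact h1.trans h2.symm)
    exact congrArg Subtype.val ((b ∣_ U₀).injective h3)
  have hYI : BlowUp.IsEffCartierIdeal ((Curv2.idealSheaf A I).comap (ν ≫ b)) := by
    rw [Scheme.IdealSheafData.comap_comp]
    exact RatBlow.cartier_comap_dominant ν hgen hb.1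
  obtain ⟨Z, g, π, hg, hZi, hZn, ⟨V, hV, hVi⟩, hπ, hsq⟩ := RatTrace.exists_cover hNB hinj (ν ≫ b) U hU
  haveI := hZi
  haveI := hVi
  haveI : FaithfulSMul A B := (faithfulSMul_iff_algebraMap_injective A B).2 hinj
  letI := FractionRing.liftAlgebra A (FractionRing B)
  obtain ⟨hdom, -⟩ := RatTrace.exists_structures A B (FractionRing A) (FractionRing B) hinj (ν ≫ b) g π hsq U hU V hV
  refine ⟨Y, Z, ν ≫ b, g, π, hνp, hYi, hYn, ⟨U, hU, hUi⟩, hg, hZi, hZn, ⟨V, hV, hVi⟩, hπ, hsq, ?_⟩
  rw [← hFc]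
  exact isEffCartierIdeal_of_product (ν ≫ b) g π hdom.map_generic hsq hZn F G c hFG hYI

end Groth.Agent.RatUp
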