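import Mathlib

/-!
Kronecker's theorem on coefficients of products over integrally closed domains.
-/

set_option autoImplicit false
set_option backward.isDefEq.respectTransparency false
set_option linter.style.haveILetI false

universe u

open Polynomial

noncomputable section

namespace Groth.Agent.RatUp

variable {R : Type u} [CommRing R] [IsDomain R] [IsIntegrallyClosed R]

/-- If `t` divides every coefficient of `P Q`, it divides every product of coefficients. -/
theorem dvd_coeff_mul_coeff (P Q : R[X]) (t : R) (h : ∀ k, t ∣ (P * Q).coeff k) (i j : ℕ) :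
    t ∣ P.coeff i * Q.coeff j := by
  classical
  by_cases hij : P.coeff i * Q.coeff j = 0
  · rw [hij]; exact dvd_zero t
  have hP : P ≠ 0 := fun e => hij (by simp [e])
  have hQ : Q ≠ 0 := fun e => hij (by simp [e])
  have ht : t ≠ 0 := fun e => mul_ne_zero hP hQ (Polynomial.ext fun k => by
    simpa [e] using h k)
  let K := FractionRing R
  let ι := algebraMap R K
  have hι : Function.Injective ι := IsFractionRing.injective R K
  let z : K := ι (P.coeff i * Q.coeff j) / ι t
  suffices hz : IsIntegral R z by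
    obtain ⟨r, hr⟩ := IsIntegrallyClosed.isIntegral_iff.1 hz
    refine ⟨r, hι ?_⟩
    rw [map_mul ι t r, show ι r = z from hr]
    exact (mul_div_cancel₀ _ ((map_ne_zero_iff _ hι).2 ht)).symm
  have key : ∀ V : ValuationSubring K, (ι.range : Set K) ⊆ V.toSubring → z ∈ V.toSubring := by
    intro V hV
    have hmax : ∀ F : R[X], F ≠ 0 → ∃ m, F.coeff m ≠ 0 ∧ ∀ n, ι (F.coeff n) / ι (F.coeff m) ∈ V := by
      intro F hF
      obtain ⟨m, hm, hmax⟩ := F.support.exists_max_image (fun n => V.valuation (ι (F.coeff n)))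
        (Polynomial.support_nonempty.2 hF)
      refine ⟨m, Polynomial.mem_support_iff.1 hm, fun n => ?_⟩
      have hm0 : ι (F.coeff m) ≠ 0 := (map_ne_zero_iff _ hι).2 (Polynomial.mem_support_iff.1 hm)
      rw [← V.valuation_le_one_iff, map_div₀, div_le_one₀ (zero_lt_iff.2 ((_root_.map_ne_zero _).2 hm0))]
      by_cases hn : n ∈ F.support
      · exact hmax n hn
      · rw [Polynomial.notMem_support_iff.1 hn, map_zero, map_zero]
        exact zero_le'
    obtain ⟨m, hm, hPm⟩ := hmax P hP
    obtain ⟨n, hn, hQn⟩ := hmax Q hQ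
    have hm0 : ι (P.coeff m) ≠ 0 := (map_ne_zero_iff _ hι).2 hm
    have hn0 : ι (Q.coeff n) ≠ 0 := (map_ne_zero_iff _ hι).2 hn
    let ν : V.toSubring →+* K := V.toSubring.subtype
    have hP' : ∃ P' : V.toSubring[X], P'.map ν = C (ι (P.coeff m))⁻¹ * P.map ι := by
      rw [← Polynomial.mem_lifts, Polynomial.lifts_iff_coeff_lifts]
      intro a
      rw [coeff_C_mul, coeff_map, mul_comm, ← div_eq_mul_inv]
      exact ⟨⟨_, hPm a⟩, rfl⟩
    have hQ' : ∃ Q' : V.toSubring[X], Q'.map ν = C (ι (Q.coeff n))⁻¹ * Q.map ι := by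
      rw [← Polynomial.mem_lifts, Polynomial.lifts_iff_coeff_lifts]
      intro a
      rw [coeff_C_mul, coeff_map, mul_comm, ← div_eq_mul_inv]
      exact ⟨⟨_, hQn a⟩, rfl⟩
    obtain ⟨P', hP'⟩ := hP'
    obtain ⟨Q', hQ'⟩ := hQ'
    have hcP : P'.contentIdeal = ⊤ := by
      refine Ideal.eq_top_iff_one _ |>.2 ?_
      have h1 : ν (P'.coeff m) = 1 := by rw [← coeff_map, hP', coeff_C_mul, coeff_map, inv_mul_cancel₀ hm0]
      rw [show (1 : V.toSubring) = P'.coeff m from Subtype.ext h1.symm]
      exact Polynomial.coeff_mem_contentIdeal P' m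
    have hcQ : Q'.contentIdeal = ⊤ := by
      refine Ideal.eq_top_iff_one _ |>.2 ?_
      have h1 : ν (Q'.coeff n) = 1 := by rw [← coeff_map, hQ', coeff_C_mul, coeff_map, inv_mul_cancel₀ hn0]
      rw [show (1 : V.toSubring) = Q'.coeff n from Subtype.ext h1.symm]
      exact Polynomial.coeff_mem_contentIdeal Q' n
    have hc := contentIdeal_mul_eq_top_of_contentIdeal_eq_top hcP hcQ
    haveI : IsLocalRing V.toSubring := inferInstanceAs (IsLocalRing V)
    obtain ⟨k, hk⟩ : ∃ k, IsUnit ((P' * Q').coeff k) := by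
      by_contra hk
      push_neg at hk
      have hle : (P' * Q').contentIdeal ≤ IsLocalRing.maximalIdeal V.toSubring := by
        rw [Polynomial.contentIdeal_def, Ideal.span_le]
        intro a ha
        obtain ⟨b, -, rfl⟩ := Polynomial.mem_coeffs_iff.1 ha
        exact hk b
      exact (IsLocalRing.maximalIdeal.isMaximal _).ne_top (top_le_iff.1 (hc ▸ hle))
    obtain ⟨r, hr⟩ := h k
    have hprod : ν ((P' * Q').coeff k) = ι t * ι r / (ι (P.coeff m) * ι (Q.coeff n)) := by
      rw [← coeff_map, Polynomial.map_mul, hP', hQ',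
        show C (ι (P.coeff m))⁻¹ * P.map ι * (C (ι (Q.coeff n))⁻¹ * Q.map ι) =
          C ((ι (P.coeff m))⁻¹ * (ι (Q.coeff n))⁻¹) * (P * Q).map ι by
          rw [map_mul, Polynomial.map_mul]; ring,
        coeff_C_mul, coeff_map, hr, map_mul, div_eq_mul_inv, mul_inv]
      ring
    obtain ⟨w, hw⟩ := hk.exists_right_inv
    have hw' : ν ((P' * Q').coeff k) * ν w = 1 := by rw [← map_mul, hw, map_one]
    rw [hprod] at hw'
    have hz : z = (ι (P.coeff i) / ι (P.coeff m)) * (ι (Q.coeff j) / ι (Q.coeff n)) * (ι r * ν w) := by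
      have ht0 : ι t ≠ 0 := (map_ne_zero_iff _ hι).2 ht
      have hw2 : ι r * ν w = (ι (P.coeff m) * ι (Q.coeff n)) / ι t := by
        rw [eq_div_iff ht0]
        rw [div_mul_eq_mul_div, div_eq_one_iff_eq (mul_ne_zero hm0 hn0)] at hw'
        linear_combination hw'
      simp only [z, map_mul, hw2]
      rw [div_mul_div_comm, div_mul_div_comm, div_eq_div_iff ht0 (mul_ne_zero (mul_ne_zero hm0 hn0) ht0)]
      ring
    rw [hz]
    exact V.toSubring.mul_mem (V.toSubring.mul_mem (hPm i) (hQn j)) (V.toSubring.mul_mem (hV ⟨r, rfl⟩) w.2)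
  have hmem : z ∈ (⨅ V : {V : ValuationSubring K // (ι.range : Set K) ⊆ V.toSubring}, V.1.toSubring) := by
    rw [Subring.mem_iInf]
    exact fun V => key V.1 V.2
  rw [iInf_valuationSubring_superset] at hmem
  obtain ⟨p, hp, hpz⟩ := hmem
  have hrange : ∀ a, ((p.coeff a : K)) ∈ ι.range := fun a => by
    have h1 : Subring.closure (ι.range : Set K) ≤ ι.range := Subring.closure_le.2 subset_rfl
    exact h1 (p.coeff a).2
  have hl : p.map (Subring.closure (ι.range : Set K)).subtype ∈ Polynomial.lifts ι := by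
    rw [Polynomial.lifts_iff_coeff_lifts]
    intro a
    rw [coeff_map]
    exact hrange a
  obtain ⟨q, hq, -, hqm⟩ := Polynomial.lifts_and_degree_eq_and_monic hl (hp.map _)
  refine ⟨q, hqm, ?_⟩
  rw [Polynomial.eval₂_eq_eval_map, hq, ← Polynomial.eval₂_eq_eval_map]
  exact hpz

end Groth.Agent.RatUp
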